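import Mathlib

/-!
A group of unitriangular `n × n` matrices over a prime field is generated by at most `n²/4`
elements: take one element for each leading position which is not composed of two others.
-/

set_option autoImplicit false

namespace Cfsg.Agent.GenA.SubgroupRank.Leading

open Matrix

variable {n : ℕ} {p : ℕ}

/-- Upper unitriangular. -/
def Uni (M : Matrix (Fin n) (Fin n) (ZMod p)) : Prop := ∀ a b, b ≤ a → M a b = (1 : Matrix _ _ (ZMod p)) a b

/-- The order of the positions. -/
def key (r : Fin n × Fin n) : ℕ := ((r.2 : ℕ) - r.1) * n + r.1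

theorem key_le {r s : Fin n × Fin n} (h : key r ≤ key s) :
    (r.2 : ℕ) - r.1 ≤ (s.2 : ℕ) - s.1 ∧
      ((r.2 : ℕ) - r.1 = (s.2 : ℕ) - s.1 → (r.1 : ℕ) ≤ s.1) := by
  have h1 := r.1.isLt
  have h2 := s.1.isLt
  unfold key at h
  constructor
  · by_contra hc
    have : ((s.2 : ℕ) - s.1 + 1) * n ≤ ((r.2 : ℕ) - r.1) * n := Nat.mul_le_mul_right n (by omega)
    rw [add_mul, one_mul] at this
    omega
  · intro he
    rw [he] at h
    omega

theorem key_lt {r s : Fin n × Fin n} (h : (r.2 : ℕ) - r.1 < (s.2 : ℕ) - s.1) : key r < key s := by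
  by_contra hc
  have := (key_le (not_lt.mp hc)).1
  omega

theorem key_inj {r s : Fin n × Fin n} (hr : r.1 < r.2) (hs : s.1 < s.2) (h : key r = key s) :
    r = s := by
  have h1 := key_le h.le
  have h2 := key_le h.ge
  rw [Fin.lt_def] at hr hs
  have hd : (r.2 : ℕ) - r.1 = (s.2 : ℕ) - s.1 := le_antisymm h1.1 h2.1
  have ha : (r.1 : ℕ) = s.1 := le_antisymm (h1.2 hd) (h2.2 hd.symm)
  exact Prod.ext (Fin.ext ha) (Fin.ext (by omega))

theorem key_bound (r : Fin n × Fin n) : key r < n * n + n := by
  have h1 := r.1.isLt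
  have h2 := r.2.isLt
  have : ((r.2 : ℕ) - r.1) * n ≤ n * n := Nat.mul_le_mul_right n (by omega)
  unfold key
  omega

theorem mul_entry {M N : Matrix (Fin n) (Fin n) (ZMod p)} (hM : Uni M) (hN : Uni N) {a b : Fin n}
    (hab : a < b) : (M * N) a b = M a b + N a b + ∑ c ∈ Finset.Ioo a b, M a c * N c b := by
  classical
  rw [Matrix.mul_apply, ← Finset.sum_subset (Finset.subset_univ (Finset.Icc a b)) (fun c _ hc => by
    rw [Finset.mem_Icc, not_and_or, not_le, not_le] at hc
    rcases hc with hc | hc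
    · rw [hM a c hc.le, Matrix.one_apply_ne hc.ne', zero_mul]
    · rw [hN c b hc.le, Matrix.one_apply_ne hc.ne', mul_zero])]
  have e : Finset.Icc a b = insert a (insert b (Finset.Ioo a b)) := by
    ext c
    simp only [Finset.mem_Icc, Finset.mem_insert, Finset.mem_Ioo, Fin.le_def, Fin.lt_def, Fin.ext_iff]
    rw [Fin.lt_def] at hab
    omega
  rw [e, Finset.sum_insert (by simp [hab.ne]), Finset.sum_insert (by simp),
    hM a a le_rfl, hN b b le_rfl, Matrix.one_apply_eq, Matrix.one_apply_eq]
  ring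

variable {K : Type*} [Group K] (ρ : K →* Matrix (Fin n) (Fin n) (ZMod p))

/-- All entries before `m` vanish. -/
def Low (x : K) (m : ℕ) : Prop := ∀ r : Fin n × Fin n, r.1 < r.2 → key r < m → ρ x r.1 r.2 = 0

/-- `r` is the leading position of `x`. -/
def Lead (x : K) (r : Fin n × Fin n) : Prop := r.1 < r.2 ∧ Low ρ x (key r) ∧ ρ x r.1 r.2 ≠ 0

variable {ρ}

theorem mul_apply_of_low (huni : ∀ x, Uni (ρ x)) {x : K} {m : ℕ} (hx : Low ρ x m) (y : K)
    {r : Fin n × Fin n} (hr : r.1 < r.2) (hm : key r ≤ m) :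
    ρ (x * y) r.1 r.2 = ρ x r.1 r.2 + ρ y r.1 r.2 := by
  rw [map_mul, mul_entry (huni x) (huni y) hr, add_eq_left]
  refine Finset.sum_eq_zero fun c hc => ?_
  rw [Finset.mem_Ioo, Fin.lt_def, Fin.lt_def] at hc
  rw [hx (r.1, c) (Fin.lt_def.mpr hc.1) ((key_lt (by simp only; omega)).trans_le hm), zero_mul]

theorem low_pow (huni : ∀ x, Uni (ρ x)) {x : K} {m : ℕ} (hx : Low ρ x m) (e : ℕ)
    {r : Fin n × Fin n} (hr : r.1 < r.2) (hm : key r ≤ m) :
    ρ (x ^ e) r.1 r.2 = e * ρ x r.1 r.2 := by
  induction e with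
  | zero => simp [Matrix.one_apply_ne (Fin.ne_of_lt hr)]
  | succ e ih =>
    rw [pow_succ', mul_apply_of_low huni hx _ hr hm, ih]
    push_cast
    ring

theorem lead_commutator [Fact p.Prime] (huni : ∀ x, Uni (ρ x)) {x y : K} {i j k : Fin n}
    (hx : Lead ρ x (i, j)) (hy : Lead ρ y (j, k)) : Lead ρ (x * y * x⁻¹ * y⁻¹) (i, k) := by
  classical
  obtain ⟨hij, hxl, hx0⟩ := hx
  obtain ⟨hjk, hyl, hy0⟩ := hy
  replace hij : (i : ℕ) < j := hij
  replace hjk : (j : ℕ) < k := hjk
  set z := x * y * x⁻¹ * y⁻¹ with hz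
  have hzyx : z * (y * x) = x * y := by rw [hz]; group
  have hik : i < k := Fin.lt_def.mpr (by omega)
  -- the entries of `xy - yx` up to `(i, k)`
  have hdiff : ∀ r : Fin n × Fin n, r.1 < r.2 → key r ≤ key (i, k) →
      ρ (x * y) r.1 r.2 = ρ (y * x) r.1 r.2 + if r = (i, k) then ρ x i j * ρ y j k else 0 := by
    rintro ⟨a, b⟩ hab hle
    obtain ⟨hd, hd'⟩ := key_le hle
    simp only [Fin.lt_def] at hd hd' hab
    have hX : ∀ u v : Fin n, (u : ℕ) < v → ρ x u v ≠ 0 →
        (j : ℕ) - i ≤ v - u ∧ ((v : ℕ) - u = j - i → (i : ℕ) ≤ u) := by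
      intro u v huv hne
      have h := key_le (not_lt.mp (fun hlt => hne (hxl (u, v) (Fin.lt_def.mpr huv) hlt)))
      exact ⟨h.1, fun he => h.2 he.symm⟩
    have hY : ∀ u v : Fin n, (u : ℕ) < v → ρ y u v ≠ 0 →
        (k : ℕ) - j ≤ v - u ∧ ((v : ℕ) - u = k - j → (j : ℕ) ≤ u) := by
      intro u v huv hne
      have h := key_le (not_lt.mp (fun hlt => hne (hyl (u, v) (Fin.lt_def.mpr huv) hlt)))
      exact ⟨h.1, fun he => h.2 he.symm⟩
    rw [map_mul, map_mul, mul_entry (huni x) (huni y) (Fin.lt_def.mpr hab),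
      mul_entry (huni y) (huni x) (Fin.lt_def.mpr hab)]
    have h2 : ∑ c ∈ Finset.Ioo a b, ρ y a c * ρ x c b = 0 := by
      refine Finset.sum_eq_zero fun c hc => ?_
      simp only [Finset.mem_Ioo, Fin.lt_def] at hc
      by_contra hne
      have h1 := hY a c hc.1 (left_ne_zero_of_mul hne)
      have h2 := hX c b hc.2 (right_ne_zero_of_mul hne)
      omega
    have h1 : ∑ c ∈ Finset.Ioo a b, ρ x a c * ρ y c b =
        if (a, b) = (i, k) then ρ x i j * ρ y j k else 0 := by
      have hterm : ∀ c ∈ Finset.Ioo a b, ρ x a c * ρ y c b ≠ 0 →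
          (a : ℕ) = i ∧ (c : ℕ) = j ∧ (b : ℕ) = k := by
        intro c hc hne
        simp only [Finset.mem_Ioo, Fin.lt_def] at hc
        have h1 := hX a c hc.1 (left_ne_zero_of_mul hne)
        have h2 := hY c b hc.2 (right_ne_zero_of_mul hne)
        omega
      split_ifs with he
      · obtain ⟨rfl, rfl⟩ := Prod.ext_iff.mp he
        refine Finset.sum_eq_single_of_mem j
          (by simp only [Finset.mem_Ioo, Fin.lt_def] at hd hd' ⊢; simp only at hij hjk; omega) fun c hc hcj => ?_
        by_contra hne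
        exact hcj (Fin.ext (hterm c hc hne).2.1)
      · refine Finset.sum_eq_zero fun c hc => ?_
        by_contra hne
        obtain ⟨e1, -, e3⟩ := hterm c hc hne
        exact he (Prod.ext (Fin.ext e1) (Fin.ext e3))
    rw [h1, h2]
    ring
  -- first nonzero entry of `z`
  have hlow : ∀ m ≤ key (i, k), Low ρ z m := by
    intro m
    induction m with
    | zero => exact fun _ r _ h => absurd h (Nat.not_lt_zero _)
    | succ m ih =>
      intro hm r hr hlt
      by_cases hrm : key r < m
      · exact ih (by omega) r hr hrm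
      · have he : key r = m := by omega
        have h := mul_apply_of_low huni (ih (by omega)) (y * x) hr he.le
        rw [hzyx, hdiff r hr (by omega), if_neg (fun e => by rw [e] at he; omega)] at h
        simpa using h
  refine ⟨hik, hlow _ le_rfl, ?_⟩
  have h := mul_apply_of_low huni (hlow _ le_rfl) (y * x) (r := (i, k)) hik le_rfl
  rw [hzyx, hdiff (i, k) hik le_rfl, if_pos rfl, add_comm (ρ z i k)] at h
  intro hz0
  exact mul_ne_zero hx0 hy0 ((add_left_cancel h).trans hz0)

/-- A set of pairs without composable shortcuts has at most `n²/4` elements. -/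
theorem card_le_quarter (E : Finset (Fin n × Fin n)) (hlt : ∀ r ∈ E, r.1 < r.2)
    (htri : ∀ a b c, (a, b) ∈ E → (b, c) ∈ E → (a, c) ∉ E) : E.card * 4 ≤ n * n := by
  classical
  rcases Nat.eq_zero_or_pos n with hn | hn
  · subst hn
    simp [Finset.eq_empty_of_isEmpty E]
  set N : Fin n → Finset (Fin n) := fun v => Finset.univ.filter fun u => (u, v) ∈ E ∨ (v, u) ∈ E with hN
  haveI : Nonempty (Fin n) := ⟨⟨0, hn⟩⟩
  obtain ⟨v, -, hv⟩ := Finset.exists_max_image Finset.univ (fun v => (N v).card) Finset.univ_nonempty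
  set I : Fin n → Finset (Fin n × Fin n) := fun u => E.filter fun r => r.1 = u ∨ r.2 = u with hI
  have hI' : ∀ u, (I u).card ≤ (N v).card := by
    intro u
    refine le_trans ?_ (hv u (Finset.mem_univ u))
    refine Finset.card_le_card_of_injOn (fun r => if r.1 = u then r.2 else r.1) ?_ ?_
    · intro r hr
      obtain ⟨hrE, hru⟩ := Finset.mem_filter.mp hr
      simp only [hN, Finset.coe_filter, Finset.mem_univ, true_and, Set.mem_setOf_eq]
      split_ifs with h
      · exact Or.inr (h ▸ hrE)
      · exact Or.inl ((hru.resolve_left h) ▸ hrE)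
    · intro r hr s hs he
      obtain ⟨hrE, hru⟩ := Finset.mem_filter.mp hr
      obtain ⟨hsE, hsu⟩ := Finset.mem_filter.mp hs
      have h1 := hlt r hrE
      have h2 := hlt s hsE
      simp only [Fin.ext_iff, Fin.lt_def] at h1 h2 hru hsu he ⊢
      simp only [Prod.ext_iff, Fin.ext_iff]
      split_ifs at he <;> omega
  have hsub : E ⊆ (Finset.univ \ N v).biUnion I := by
    rintro ⟨a, b⟩ hab
    simp only [hI, hN, Finset.mem_biUnion, Finset.mem_sdiff, Finset.mem_univ, true_and,
      Finset.mem_filter, not_or]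
    by_cases ha : (a, v) ∈ E ∨ (v, a) ∈ E
    · refine ⟨b, ⟨fun hb => ?_, fun hb => ?_⟩, hab, Or.inr rfl⟩
      · rcases ha with ha | ha
        · exact htri a b v hab hb ha
        · have h1 := hlt _ ha
          have h2 := hlt _ hab
          have h3 := hlt _ hb
          simp only [Fin.lt_def] at h1 h2 h3
          omega
      · rcases ha with ha | ha
        · exact htri a v b ha hb hab
        · exact htri v a b ha hab hb
    · exact ⟨a, not_or.mp ha, hab, Or.inl rfl⟩
  have hle := (Finset.card_le_card hsub).trans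
    ((Finset.card_biUnion_le).trans (Finset.sum_le_card_nsmul _ _ _ fun u _ => hI' u))
  rw [Finset.card_sdiff_of_subset (Finset.subset_univ _), Finset.card_univ, Fintype.card_fin,
    smul_eq_mul] at hle
  have hΔ : (N v).card ≤ n := by simpa using Finset.card_le_univ (N v)
  obtain ⟨t, ht⟩ := Nat.le.dest hΔ
  rw [show n - (N v).card = t by omega] at hle
  have hsq : 4 * (t * (N v).card) ≤ (t + (N v).card) * (t + (N v).card) := by
    nlinarith [sq_nonneg ((t : ℤ) - ((N v).card : ℤ))]
  calc E.card * 4 ≤ 4 * (t * (N v).card) := by omega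
    _ ≤ (t + (N v).card) * (t + (N v).card) := hsq
    _ = n * n := by rw [show t + (N v).card = n by omega]

theorem exists_generators [Fact p.Prime] [Finite K] (hinj : Function.Injective ρ)
    (huni : ∀ x, Uni (ρ x)) :
    ∃ S : Finset K, S.card * 4 ≤ n * n ∧ Subgroup.closure (S : Set K) = ⊤ := by
  classical
  set L : Finset (Fin n × Fin n) := Finset.univ.filter fun r => ∃ x, Lead ρ x r with hL
  set E := L.filter fun r => ¬ ∃ j, (r.1, j) ∈ L ∧ (j, r.2) ∈ L with hE
  have hLlt : ∀ r ∈ L, r.1 < r.2 := fun r hr => (Finset.mem_filter.mp hr).2.choose_spec.1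
  have hEL : ∀ r ∈ E, r ∈ L := fun r hr => (Finset.mem_filter.mp hr).1
  have hg : ∀ r : E, ∃ x, Lead ρ x r := fun r => (Finset.mem_filter.mp (hEL r r.2)).2
  choose g hgl using hg
  refine ⟨E.attach.image g, le_trans (Nat.mul_le_mul_right 4 (Finset.card_image_le.trans_eq
    Finset.card_attach)) (card_le_quarter E (fun r hr => hLlt r (hEL r hr)) ?_), ?_⟩
  · intro a b c hab hbc hac
    exact (Finset.mem_filter.mp hac).2 ⟨b, hEL _ hab, hEL _ hbc⟩
  set H := Subgroup.closure ((E.attach.image g : Finset K) : Set K) with hH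
  have hreal : ∀ d, ∀ r ∈ L, (r.2 : ℕ) - r.1 = d → ∃ h ∈ H, Lead ρ h r := by
    intro d
    induction d using Nat.strong_induction_on with
    | _ d ih =>
      intro r hr hd
      by_cases hrE : r ∈ E
      · exact ⟨g ⟨r, hrE⟩, Subgroup.subset_closure (Finset.mem_coe.mpr
          (Finset.mem_image_of_mem g (Finset.mem_attach _ _))), hgl ⟨r, hrE⟩⟩
      · simp only [hE, Finset.mem_filter, hr, true_and, not_not] at hrE
        obtain ⟨j, h1, h2⟩ := hrE
        have l1 := hLlt _ h1
        have l2 := hLlt _ h2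
        simp only [Fin.lt_def] at l1 l2
        obtain ⟨u, hu, hul⟩ := ih ((j : ℕ) - r.1) (by omega) _ h1 rfl
        obtain ⟨w, hw, hwl⟩ := ih ((r.2 : ℕ) - j) (by omega) _ h2 rfl
        exact ⟨_, mul_mem (mul_mem (mul_mem hu hw) (inv_mem hu)) (inv_mem hw),
          lead_commutator huni hul hwl⟩
  have key' : ∀ e m, n * n + n ≤ m + e → ∀ x, Low ρ x m → x ∈ H := by
    intro e
    induction e with
    | zero =>
      intro m hm x hx
      have : x = 1 := hinj (by
        rw [map_one]
        ext a b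
        rcases le_or_gt b a with hba | hab
        · exact huni x a b hba
        · rw [Matrix.one_apply_ne hab.ne]
          exact hx (a, b) hab ((key_bound _).trans_le (by omega)))
      rw [this]
      exact one_mem _
    | succ e ih =>
      intro m hm x hx
      by_cases hr : ∃ r : Fin n × Fin n, r.1 < r.2 ∧ key r = m ∧ ρ x r.1 r.2 ≠ 0
      · obtain ⟨r, hr, hrm, hr0⟩ := hr
        have hrL : r ∈ L := Finset.mem_filter.mpr
          ⟨Finset.mem_univ r, x, hr, hrm ▸ hx, hr0⟩
        obtain ⟨h, hhH, -, hhl, hh0⟩ := hreal _ r hrL rfl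
        rw [hrm] at hhl
        set v := (-(ρ x r.1 r.2) / ρ h r.1 r.2).val with hv
        have hnew : Low ρ (x * h ^ v) (m + 1) := by
          intro s hs hlt
          rw [mul_apply_of_low huni hx _ hs (by omega), low_pow huni hhl v hs (by omega)]
          by_cases hsm : key s < m
          · rw [hx s hs hsm, hhl s hs hsm]
            ring
          · obtain rfl : s = r := key_inj hs hr (by omega)
            rw [hv, ZMod.natCast_zmod_val, div_mul_cancel₀ _ hh0, add_neg_cancel]
        have := mul_mem (ih (m + 1) (by omega) _ hnew) (inv_mem (pow_mem hhH v))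
        rwa [mul_inv_cancel_right] at this
      · refine ih (m + 1) (by omega) x fun s hs hlt => ?_
        by_cases hsm : key s < m
        · exact hx s hs hsm
        · by_contra hne
          exact hr ⟨s, hs, by omega, hne⟩
  exact eq_top_iff.mpr fun x _ => key' (n * n + n) 0 (by omega) x
    fun r _ h => absurd h (Nat.not_lt_zero _)

end Cfsg.Agent.GenA.SubgroupRank.Leading
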