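import Cfsg.Agent.OddLocal.Coprime
import Cfsg.Agent.Solvable.Basics
import Cfsg.Agent.Lib.PGroups.Basic
import Mathlib.GroupTheory.Frattini

/-!
For `p` odd, a `p`-group whose elements of order `p` lie in a central subgroup `A` with
`|A| ≤ p ^ j` is generated by `j` elements.
-/

set_option autoImplicit false

namespace Cfsg.Agent.GenA.SubgroupRank.PCentral

universe u

open Subgroup

variable {p : ℕ} [hp : Fact p.Prime]

theorem inv_mul_pow_eq_one (hodd : p ≠ 2) :
    ∀ (N : ℕ) (K : Type u) [Group K] [Finite K], Nat.card K = N → IsPGroup p K →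
      (∀ x : K, x ^ p = 1 → x ∈ center K) → ∀ x y : K, x ^ p = y ^ p → (y⁻¹ * x) ^ p = 1 := by
  intro N
  induction N using Nat.strong_induction_on with
  | _ N ih =>
    intro K _ _ hN hK hc x y hxy
    by_cases htop : zpowers x = ⊤
    · have hy : Commute x y := by
        obtain ⟨e, rfl⟩ := mem_zpowers_iff.mp (htop.symm ▸ mem_top y : y ∈ zpowers x)
        exact (Commute.refl x).zpow_right e
      rw [(hy.symm.inv_left).mul_pow, inv_pow, hxy, inv_mul_cancel]
    · set u := y * x * y⁻¹ with hu
      have hup : u ^ p = x ^ p := by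
        rw [hu, conj_pow, hxy, (Commute.self_pow y p).eq, mul_inv_cancel_right]
      -- a proper normal subgroup containing `x`
      obtain ⟨M, hM, hle⟩ := (eq_top_or_exists_le_coatom (zpowers x)).resolve_left htop
      haveI := hK.isNilpotent
      haveI := NormalizerCondition.normal_of_coatom M Group.normalizerCondition_of_isNilpotent hM
      have hxM : x ∈ M := hle (mem_zpowers x)
      have huM : u ∈ M := (inferInstance : M.Normal).conj_mem x hxM y
      have hlt : Nat.card M < N := by
        rw [← hN]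
        refine lt_of_le_of_ne (card_le_card_group M) fun e => hM.1 (eq_top_of_card_eq M e)
      have h := ih _ hlt M rfl (hK.to_subgroup M)
        (fun z hz => mem_center_iff.mpr fun w => Subtype.ext
          (mem_center_iff.mp (hc z (by simpa using congrArg Subtype.val hz)) w))
        ⟨u, huM⟩ ⟨x, hxM⟩ (Subtype.ext hup)
      have hz : (x⁻¹ * u) ^ p = 1 := by simpa using congrArg Subtype.val h
      set z := x⁻¹ * u with hzdef
      have hzc : ∀ w, Commute z w := fun w => (mem_center_iff.mp (hc z hz) w).symm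
      have hv : x * y⁻¹ * x⁻¹ = z * y⁻¹ := by
        have e : z = x * (y⁻¹ * z * y) * x⁻¹ := by
          rw [← (hzc y⁻¹).eq, inv_mul_cancel_right, ← (hzc x).eq, mul_inv_cancel_right]
        rw [e, hzdef, hu]
        group
      rw [OddLocal.Coprime.mul_pow_of_central_commutator hv (hzc _) (hzc _), inv_pow, hxy,
        inv_mul_cancel, mul_one]
      obtain ⟨m, hm⟩ := hp.out.dvd_choose_self (k := 2) (by omega) (lt_of_le_of_ne hp.out.two_le (Ne.symm hodd))
      rw [hm, pow_mul, hz, one_pow]

theorem exists_generators {K : Type u} [Group K] [Finite K] (hodd : p ≠ 2) (hK : IsPGroup p K)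
    (A : Subgroup K) (hA : A ≤ center K) (hΩ : ∀ x : K, x ^ p = 1 → x ∈ A) (j : ℕ)
    (hcard : Nat.card A ≤ p ^ j) :
    ∃ S : Finset K, S.card ≤ j ∧ closure (S : Set K) = ⊤ := by
  classical
  have hinj : ∀ x y : K, x ^ p = y ^ p → y⁻¹ * x ∈ A := fun x y h =>
    hΩ _ (inv_mul_pow_eq_one hodd _ K rfl hK (fun z hz => hA (hΩ z hz)) x y h)
  let r : K → K := fun t => if h : ∃ y, y ^ p = t then h.choose else 1
  have hr : ∀ x : K, r (x ^ p) ^ p = x ^ p := fun x => by
    simp only [r]
    rw [dif_pos ⟨x, rfl⟩]
    exact (⟨x, rfl⟩ : ∃ y, y ^ p = x ^ p).choose_spec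
  have hle : Nat.card K ≤ Nat.card (frattini K) * p ^ j := by
    refine le_trans (Nat.card_le_card_of_injective (fun x : K =>
      ((⟨x ^ p, Solvable.Basics.pow_mem_frattini hK x⟩ : frattini K),
        (⟨(r (x ^ p))⁻¹ * x, hinj _ _ (hr x).symm⟩ : A))) fun x y h => ?_) ?_
    · simp only [Prod.mk.injEq, Subtype.mk.injEq] at h
      rw [h.1] at h
      exact mul_left_cancel h.2
    · rw [Nat.card_prod]
      exact Nat.mul_le_mul_left _ hcard
  have hq : Nat.card (K ⧸ frattini K) ≤ p ^ j := by
    refine Nat.le_of_mul_le_mul_left ?_ (Nat.card_pos (α := frattini K))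
    calc Nat.card (frattini K) * Nat.card (K ⧸ frattini K) = Nat.card K := by
          rw [← index_eq_card, card_mul_index]
      _ ≤ _ := hle
  obtain ⟨T, hT, htop⟩ := PGroups.Basic.exists_generators (hK.to_quotient _) j hq
  refine ⟨T.image Quotient.out, Finset.card_image_le.trans hT, frattini_nongenerating ?_⟩
  have hmap : (closure ((T.image Quotient.out : Finset K) : Set K)).map
      (QuotientGroup.mk' (frattini K)) = ⊤ := by
    rw [MonoidHom.map_closure, ← htop]
    congr 1
    ext q
    simp
  have h := congrArg (Subgroup.comap (QuotientGroup.mk' (frattini K))) hmap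
  rw [comap_map_eq, QuotientGroup.ker_mk', comap_top] at h
  exact h

end Cfsg.Agent.GenA.SubgroupRank.PCentral
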