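import Cfsg.Agent.GenA.SubgroupRank.Leading

/-!
A finite `p`-group of invertible matrices over `ZMod p` is conjugate into the unitriangular group.
-/

set_option autoImplicit false

namespace Cfsg.Agent.GenA.SubgroupRank.Triangular

open Matrix Cfsg.Agent.GenA.SubgroupRank.Leading

variable {n p : ℕ}

theorem uni_mul {M N : Matrix (Fin n) (Fin n) (ZMod p)} (hM : Uni M) (hN : Uni N) : Uni (M * N) := by
  intro a b hba
  rw [Matrix.mul_apply, Finset.sum_eq_single_of_mem a (Finset.mem_univ a) fun c _ hca => ?_]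
  · rw [hM a a le_rfl, Matrix.one_apply_eq, one_mul, hN a b hba]
  · rcases lt_or_gt_of_ne hca with h | h
    · rw [hM a c h.le, Matrix.one_apply_ne hca.symm, zero_mul]
    · rw [hN c b (hba.trans h.le), Matrix.one_apply_ne (ne_of_gt (lt_of_le_of_lt hba h)), mul_zero]

theorem uni_one : Uni (1 : Matrix (Fin n) (Fin n) (ZMod p)) := fun _ _ _ => rfl

/-- The unitriangular subgroup. -/
def U (n p : ℕ) [Fact p.Prime] : Subgroup (GL (Fin n) (ZMod p)) where
  carrier := {g | Uni (g : Matrix (Fin n) (Fin n) (ZMod p))}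
  one_mem' := uni_one
  mul_mem' {g h} hg hh := by
    show Uni (Units.val (g * h))
    rw [Units.val_mul]
    exact uni_mul hg hh
  inv_mem' {g} hg := by
    obtain ⟨e, he, h⟩ : ∃ e, 0 < e ∧ g ^ e = 1 :=
      ⟨orderOf g, orderOf_pos g, pow_orderOf_eq_one g⟩
    have : g⁻¹ = g ^ (e - 1) := by
      rw [inv_eq_iff_mul_eq_one, ← pow_succ', Nat.sub_add_cancel he, h]
    show Uni (Units.val g⁻¹)
    rw [this, Units.val_pow_eq_pow_val]
    have : ∀ m, Uni ((g : Matrix (Fin n) (Fin n) (ZMod p)) ^ m) := fun m => by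
      induction m with
      | zero => exact uni_one
      | succ m ih => rw [pow_succ]; exact uni_mul ih hg
    exact this _

theorem card_U (n p : ℕ) [Fact p.Prime] : Nat.card (U n p) = p ^ (∑ b : Fin n, (b : ℕ)) := by
  classical
  have e : U n p ≃ ((Σ b : Fin n, Fin b) → ZMod p) := by
    refine Equiv.ofBijective (fun g r => (g.1 : Matrix (Fin n) (Fin n) (ZMod p))
      ⟨r.2, r.2.isLt.trans r.1.isLt⟩ r.1) ⟨?_, ?_⟩
    · intro g h hgh
      refine Subtype.ext (Units.ext ?_)
      ext a b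
      rcases le_or_gt b a with hba | hab
      · rw [g.2 a b hba, h.2 a b hba]
      · exact congrFun hgh ⟨b, ⟨a, hab⟩⟩
    · intro f
      set M : Matrix (Fin n) (Fin n) (ZMod p) := fun a b =>
        if h : a < b then f ⟨b, ⟨a, h⟩⟩ else (1 : Matrix (Fin n) (Fin n) (ZMod p)) a b with hM
      have hu : Uni M := fun a b hba => by simp only [hM]; rw [dif_neg (not_lt.mpr hba)]
      have ht : M.IsUpperTriangular := fun a b hba => by
        rw [hu a b (le_of_lt hba), Matrix.one_apply_ne (ne_of_gt (show b < a from hba))]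
      have hdet : IsUnit M.det := by
        rw [Matrix.det_of_isUpperTriangular ht, Finset.prod_eq_one fun a _ => by
          rw [hu a a le_rfl, Matrix.one_apply_eq]]
        exact isUnit_one
      refine ⟨⟨M.nonsingInvUnit hdet, ?_⟩, ?_⟩
      · exact hu
      · funext r
        obtain ⟨b, a⟩ := r
        show M ⟨a, _⟩ b = _
        simp only [hM]
        rw [dif_pos (show (⟨(a : ℕ), a.isLt.trans b.isLt⟩ : Fin n) < b from a.isLt)]
  rw [Nat.card_congr e, Nat.card_fun, Nat.card_zmod, Nat.card_eq_fintype_card, Fintype.card_sigma]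
  simp

theorem exists_conj_uni [Fact p.Prime] {K : Type*} [Group K] (hK : IsPGroup p K)
    (f : K →* GL (Fin n) (ZMod p)) :
    ∃ g : GL (Fin n) (ZMod p),
      ∀ x, Uni ((g⁻¹ * f x * g : GL (Fin n) (ZMod p)) : Matrix (Fin n) (Fin n) (ZMod p)) := by
  classical
  have hp : p.Prime := Fact.out
  have hU : IsPGroup p (U n p) := IsPGroup.of_card (card_U n p)
  have hidx : ¬ p ∣ (U n p).index := by
    have h := (U n p).card_mul_index
    rw [card_U, Matrix.card_GL_field, ZMod.card] at h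
    have hsplit : ∀ i : Fin n, p ^ n - p ^ (i : ℕ) = p ^ (i : ℕ) * (p ^ (n - i) - 1) := fun i => by
      rw [Nat.mul_sub, mul_one, ← pow_add, Nat.add_sub_cancel' i.isLt.le]
    simp only [hsplit, Finset.prod_mul_distrib, Finset.prod_pow_eq_pow_sum] at h
    rw [Nat.eq_of_mul_eq_mul_left (pow_pos hp.pos _) h]
    intro hdvd
    obtain ⟨i, -, hi⟩ := (Prime.dvd_finset_prod_iff hp.prime _).mp hdvd
    have h1 : p ∣ p ^ (n - i) := dvd_pow_self p (by have := i.isLt; omega)
    have h2 := Nat.dvd_sub h1 hi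
    rw [Nat.sub_sub_self (Nat.one_le_pow _ _ hp.pos)] at h2
    exact hp.one_lt.ne' (Nat.dvd_one.mp h2)
  obtain ⟨Q, hQ⟩ := (hK.of_surjective f.rangeRestrict f.rangeRestrict_surjective).exists_le_sylow
  obtain ⟨g, hg⟩ := MulAction.exists_smul_eq (GL (Fin n) (ZMod p)) (hU.toSylow hidx) Q
  refine ⟨g, fun x => ?_⟩
  have h : f x ∈ (Q : Subgroup (GL (Fin n) (ZMod p))) := hQ ⟨x, rfl⟩
  rw [← hg, Sylow.coe_subgroup_smul, Subgroup.mem_pointwise_smul_iff_inv_smul_mem,
    IsPGroup.toSylow_coe, MulAut.smul_def, MulAut.inv_def, MulAut.conj_symm_apply] at h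
  exact h

end Cfsg.Agent.GenA.SubgroupRank.Triangular
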